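import Groth.Agent.HensGRingLib.J2
import Groth.Agent.HensDvrCdLib.Alg
import Groth.Agent.SepDescentLib.Main

/-!
# Separable extensions of a henselian discretely valued field and of its completion
-/

set_option autoImplicit false
set_option linter.all false
set_option backward.isDefEq.respectTransparency false
set_option backward.isDefEq.respectTransparency.types false
set_option maxHeartbeats 1000000

universe u

open IsLocalRing
open scoped TensorProduct

noncomputable section

namespace DvrFEtLib

variable (R : Type u) [CommRing R] [IsDomain R] [IsDiscreteValuationRing R] [HenselianLocalRing R]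
  (D : Type u) [CommRing D] [IsDomain D] [IsDiscreteValuationRing D] [Algebra R D]

/-- A finite separable extension stays a field over the completion. -/
theorem isField_tensor (ϖ : R) (hϖ : Irreducible ϖ) (hD : maximalIdeal D = Ideal.span {algebraMap R D ϖ})
    (hdense : ∀ d : D, ∃ a : R, d - algebraMap R D a ∈ maximalIdeal D)
    (K Kh : Type u) [Field K] [Algebra R K] [IsFractionRing R K] [Field Kh] [Algebra D Kh] [IsFractionRing D Kh]
    [Algebra R Kh] [Algebra K Kh] [IsScalarTower R D Kh] [IsScalarTower R K Kh]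
    (L : Type u) [Field L] [Algebra K L] [FiniteDimensional K L] [Algebra.IsSeparable K L] :
    IsField (Kh ⊗[K] L) := by
  classical
  letI : Algebra R L := ((algebraMap K L).comp (algebraMap R K)).toAlgebra
  haveI : IsScalarTower R K L := IsScalarTower.of_algebraMap_eq fun _ => rfl
  let S := integralClosure R L
  haveI : IsIntegralClosure S R L := inferInstance
  haveI : IsFractionRing S L := IsIntegralClosure.isFractionRing_of_finite_extension R K L S
  haveI : IsLocalization (Algebra.algebraMapSubmonoid S (nonZeroDivisors R)) L :=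
    IsIntegralClosure.isLocalization R K L S
  haveI : Module.Finite R S := IsIntegralClosure.finite R K L S
  haveI : IsLocalRing S := HensGRingLib.isLocalRing_of_finite_domain R S
  haveI : IsDedekindDomain S := IsIntegralClosure.isDedekindDomain R K L S
  have hRL : Function.Injective (algebraMap R L) := (algebraMap K L).injective.comp (IsFractionRing.injective R K)
  have hRS : Function.Injective (algebraMap R S) := fun a b h =>
    hRL (by rw [IsScalarTower.algebraMap_apply R S L, h, ← IsScalarTower.algebraMap_apply R S L])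
  haveI : Module.IsTorsionFree R S := by
    haveI : FaithfulSMul R S := (faithfulSMul_iff_algebraMap_injective R S).2 hRS
    infer_instance
  haveI : Module.Free R S := inferInstance
  haveI : IsDiscreteValuationRing S := by
    have hnf : ¬ IsField S := fun hf => IsDiscreteValuationRing.not_isField R
      ((Algebra.IsIntegral.isField_iff_isField (R := R) (S := S) hRS).2 hf)
    haveI : IsNoetherianRing S := IsNoetherianRing.of_finite R S
    exact ((IsDiscreteValuationRing.TFAE S hnf).out 0 2).2 ‹IsDedekindDomain S›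
  obtain ⟨p, hp⟩ := IsDiscreteValuationRing.exists_irreducible S
  have hϖS : algebraMap R S ϖ ≠ 0 := fun h => hϖ.ne_zero (hRS (h.trans (map_zero _).symm))
  obtain ⟨e, v, hev⟩ := IsDiscreteValuationRing.eq_unit_mul_pow_irreducible hϖS hp
  have hpdvd : p ∣ algebraMap R S ϖ := by
    refine (Ideal.mem_span_singleton).1 (hp.maximalIdeal_eq ▸ ?_)
    intro hu
    exact hϖ.not_isUnit (isUnit_of_map_unit (algebraMap R S) ϖ hu)
  let C := D ⊗[R] S
  let b := Module.Free.chooseBasis R S
  let bC : Module.Basis (Module.Free.ChooseBasisIndex R S) D C := Algebra.TensorProduct.basis D b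
  haveI : Nontrivial C := by
    haveI : Nonempty (Module.Free.ChooseBasisIndex R S) := b.index_nonempty
    obtain ⟨i⟩ := ‹Nonempty (Module.Free.ChooseBasisIndex R S)›
    exact ⟨⟨bC i, 0, bC.ne_zero i⟩⟩
  let pC : C := 1 ⊗ₜ p
  have hDinj : algebraMap R D ϖ ≠ 0 := fun h => IsDiscreteValuationRing.not_a_field D (by rw [hD, h, Ideal.span_singleton_zero])
  have hpow : (algebraMap D C (algebraMap R D ϖ)) = (1 ⊗ₜ (v : S)) * pC ^ e := by
    show (algebraMap R D ϖ) ⊗ₜ (1 : S) = _
    rw [Algebra.TensorProduct.tmul_pow, Algebra.TensorProduct.tmul_mul_tmul, one_pow, one_mul, ← hev,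
      Algebra.algebraMap_eq_smul_one, TensorProduct.smul_tmul, Algebra.algebraMap_eq_smul_one]
  have hC_ϖ : ∀ x : C, algebraMap D C (algebraMap R D ϖ) * x = 0 → x = 0 := fun x hx => by
    rw [← Algebra.smul_def] at hx
    exact (smul_eq_zero.1 hx).resolve_left hDinj
  have hnu : ¬ IsUnit pC := fun hu => by
    have h1 : IsUnit (algebraMap D C (algebraMap R D ϖ)) := by
      rw [hpow]
      exact ((v.isUnit.map (Algebra.TensorProduct.includeRight : S →ₐ[R] C))).mul (hu.pow e)
    have hm : algebraMap R D ϖ ∈ maximalIdeal D := hD ▸ Ideal.mem_span_singleton_self _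
    haveI : Algebra.IsIntegral D C := Algebra.IsIntegral.of_finite D C
    haveI : FaithfulSMul D C := inferInstance
    exact hm ((RingHom.IsIntegral.isLocalHom (algebraMap_isIntegral_iff.2 inferInstance)
      (FaithfulSMul.algebraMap_injective D C)).map_nonunit _ h1)
  have hsurj : ∀ x : C, ∃ s : S, x - 1 ⊗ₜ s ∈ Ideal.span {pC} := fun x => by
    induction x using TensorProduct.induction_on with
    | zero => exact ⟨0, by simp⟩
    | tmul d s =>
      obtain ⟨a, ha⟩ := hdense d
      rw [hD, Ideal.mem_span_singleton'] at ha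
      obtain ⟨d', hd'⟩ := ha
      refine ⟨a • s, ?_⟩
      rw [← TensorProduct.smul_tmul, ← Algebra.algebraMap_eq_smul_one, ← TensorProduct.sub_tmul, ← hd',
        mul_comm d', show (algebraMap R D ϖ * d') ⊗ₜ[R] s = (algebraMap D C (algebraMap R D ϖ)) * (d' ⊗ₜ s) by
          show _ = ((algebraMap R D ϖ) ⊗ₜ (1 : S)) * (d' ⊗ₜ s)
          rw [Algebra.TensorProduct.tmul_mul_tmul, one_mul]]
      obtain ⟨q, hq⟩ := hpdvd
      rw [show algebraMap D C (algebraMap R D ϖ) = pC * (1 ⊗ₜ q) by
        show (algebraMap R D ϖ) ⊗ₜ (1 : S) = _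
        rw [Algebra.TensorProduct.tmul_mul_tmul, one_mul, ← hq, Algebra.algebraMap_eq_smul_one, TensorProduct.smul_tmul,
          Algebra.algebraMap_eq_smul_one], mul_assoc]
      exact Ideal.mul_mem_right _ _ (Ideal.mem_span_singleton_self _)
    | add x y hx hy =>
      obtain ⟨s, hs⟩ := hx
      obtain ⟨t, ht⟩ := hy
      refine ⟨s + t, ?_⟩
      rw [TensorProduct.tmul_add, show x + y - (1 ⊗ₜ[R] s + 1 ⊗ₜ[R] t) = (x - 1 ⊗ₜ s) + (y - 1 ⊗ₜ t) by abel]
      exact add_mem hs ht
  have hne : Ideal.span {pC} ≠ ⊤ := fun h => hnu (Ideal.span_singleton_eq_top.1 h)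
  have hunit : ∀ x : C, x ∉ Ideal.span {pC} → IsUnit (Ideal.Quotient.mk (Ideal.span {pC}) x) := fun x hx => by
    obtain ⟨s, hs⟩ := hsurj x
    rw [(Ideal.Quotient.mk_eq_mk_iff_sub_mem _ _).2 hs]
    refine ((IsUnit.map (Algebra.TensorProduct.includeRight : S →ₐ[R] C) ?_)).map _
    by_contra hsu
    refine hx ?_
    have : p ∣ s := Ideal.mem_span_singleton.1 (hp.maximalIdeal_eq ▸ hsu)
    obtain ⟨t, rfl⟩ := this
    have h2 : (1 : D) ⊗ₜ[R] (p * t) ∈ Ideal.span {pC} :=
      Ideal.mem_span_singleton.2 ⟨1 ⊗ₜ t, by simp [pC, Algebra.TensorProduct.tmul_mul_tmul]⟩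
    simpa using add_mem hs h2
  haveI hmax : (Ideal.span {pC}).IsMaximal := by
    refine Ideal.Quotient.maximal_of_isField _ ⟨?_, fun a b => mul_comm a b, fun {a} ha => ?_⟩
    · haveI := Ideal.Quotient.nontrivial_iff.2 hne
      exact exists_pair_ne _
    · obtain ⟨x, rfl⟩ := Ideal.Quotient.mk_surjective a
      obtain ⟨w, hw⟩ := (hunit x fun h => ha (Ideal.Quotient.eq_zero_iff_mem.2 h)).exists_right_inv
      exact ⟨w, hw⟩
  have huniq : ∀ M : Ideal C, M.IsMaximal → M = Ideal.span {pC} := fun M hM => by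
    haveI := hM
    haveI : Algebra.IsIntegral D C := Algebra.IsIntegral.of_finite D C
    have h1 : (M.comap (algebraMap D C)).IsMaximal := Ideal.isMaximal_comap_of_isIntegral_of_isMaximal M
    have h2 : algebraMap D C (algebraMap R D ϖ) ∈ M := by
      show algebraMap R D ϖ ∈ M.comap (algebraMap D C)
      rw [IsLocalRing.eq_maximalIdeal h1, hD]
      exact Ideal.mem_span_singleton_self _
    rw [hpow] at h2
    have h3 : pC ∈ M := hM.isPrime.mem_of_pow_mem _ ((hM.isPrime.mem_or_mem h2).resolve_left fun h =>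
      hM.ne_top (Ideal.eq_top_of_isUnit_mem _ h (v.isUnit.map (Algebra.TensorProduct.includeRight : S →ₐ[R] C))))
    exact (hmax.eq_of_le hM.ne_top ((Ideal.span_singleton_le_iff_mem _).2 h3)).symm
  haveI : IsLocalRing C := IsLocalRing.of_unique_max_ideal ⟨_, hmax, huniq⟩
  haveI : IsNoetherianRing C := IsNoetherianRing.of_finite D C
  have hmC : maximalIdeal C = Ideal.span {pC} := (IsLocalRing.eq_maximalIdeal hmax).symm
  have hreg : pC ∈ nonZeroDivisors C := by
    rw [mem_nonZeroDivisors_iff_right]
    intro x hx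
    rcases Nat.eq_zero_or_pos e with he | he
    · exfalso
      rw [he, pow_zero, mul_one] at hev
      exact hϖ.not_isUnit (isUnit_of_map_unit (algebraMap R S) ϖ (hev ▸ v.isUnit))
    · obtain ⟨e', rfl⟩ : ∃ e', e = e' + 1 := ⟨e - 1, by omega⟩
      refine hC_ϖ x ?_
      rw [hpow, pow_succ]
      linear_combination ((1 : D) ⊗ₜ[R] (v : S)) * pC ^ e' * hx
  obtain ⟨hdom, -⟩ := HensDvrCdLib.isDomain_dvr C pC hmC hreg
  haveI := hdom
  -- the comparison with the generic fibre
  let bL : Module.Basis (Module.Free.ChooseBasisIndex R S) K L := b.localizationLocalization K (nonZeroDivisors R) L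
  let bT : Module.Basis (Module.Free.ChooseBasisIndex R S) Kh (Kh ⊗[K] L) := Algebra.TensorProduct.basis Kh bL
  let j : C →ₐ[R] Kh ⊗[K] L :=
    Algebra.TensorProduct.lift
      ((Algebra.TensorProduct.includeLeft : Kh →ₐ[K] Kh ⊗[K] L).restrictScalars R |>.comp (IsScalarTower.toAlgHom R D Kh))
      ((Algebra.TensorProduct.includeRight : L →ₐ[K] Kh ⊗[K] L).restrictScalars R |>.comp (IsScalarTower.toAlgHom R S L))
      fun _ _ => Commute.all _ _
  have hjb : ∀ (d : D) i, j (d • bC i) = algebraMap D Kh d • bT i := fun d i => by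
    rw [show d • bC i = d ⊗ₜ[R] b i by
        rw [show bC i = (1 : D) ⊗ₜ[R] b i from Algebra.TensorProduct.basis_apply b i, TensorProduct.smul_tmul', smul_eq_mul, mul_one]]
    refine (Algebra.TensorProduct.lift_tmul _ _ _ _ _).trans ?_
    simp only [bT, bL, Algebra.TensorProduct.basis_apply, Module.Basis.localizationLocalization_apply,
      TensorProduct.smul_tmul', smul_eq_mul, mul_one]
    show (algebraMap D Kh d ⊗ₜ[K] (1 : L)) * ((1 : Kh) ⊗ₜ[K] algebraMap S L (b i)) = _
    rw [Algebra.TensorProduct.tmul_mul_tmul, mul_one, one_mul]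
  have hjrepr : ∀ x : C, j x = ∑ i, algebraMap D Kh (bC.repr x i) • bT i := fun x => by
    conv_lhs => rw [← bC.sum_repr x]
    rw [map_sum]
    exact Finset.sum_congr rfl fun i _ => hjb _ i
  have hrepr : ∀ x i, bT.repr (j x) i = algebraMap D Kh (bC.repr x i) := fun x i => by
    rw [hjrepr, Module.Basis.repr_sum_self]
  have hjinj : ∀ x, j x = 0 → x = 0 := fun x hx => bC.ext_elem fun i => IsFractionRing.injective D Kh (by
    rw [← hrepr, hx]; simp)
  have hclear : ∀ z : Kh ⊗[K] L, ∃ (d : D) (x : C), d ≠ 0 ∧ algebraMap D Kh d • z = j x := fun z => by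
    obtain ⟨d, hd⟩ := IsLocalization.exist_integer_multiples (nonZeroDivisors D) Finset.univ fun i => bT.repr z i
    choose c hc using fun i => hd i (Finset.mem_univ i)
    refine ⟨d, ∑ i, c i • bC i, nonZeroDivisors.ne_zero d.2, bT.ext_elem fun i => ?_⟩
    rw [hrepr, Module.Basis.repr_sum_self, map_smul, Finsupp.smul_apply, smul_eq_mul]
    have := hc i
    rw [Algebra.smul_def] at this
    exact this.symm
  haveI : Nontrivial (Kh ⊗[K] L) := ⟨⟨j 1, 0, fun h => one_ne_zero (hjinj 1 h)⟩⟩
  haveI : NoZeroDivisors (Kh ⊗[K] L) := ⟨fun {z w} hzw => by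
    obtain ⟨d, x, hd, hx⟩ := hclear z
    obtain ⟨d', y, hd', hy⟩ := hclear w
    have : j (x * y) = 0 := by
      rw [map_mul, ← hx, ← hy, smul_mul_smul_comm, hzw, smul_zero]
    have hne : ∀ {d : D}, d ≠ 0 → algebraMap D Kh d ≠ 0 := fun h => (map_ne_zero_iff _ (IsFractionRing.injective D Kh)).2 h
    rcases mul_eq_zero.1 (hjinj _ this) with h | h
    · exact Or.inl ((smul_eq_zero.1 (hx.trans (by rw [h, map_zero]))).resolve_left (hne hd))
    · exact Or.inr ((smul_eq_zero.1 (hy.trans (by rw [h, map_zero]))).resolve_left (hne hd'))⟩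
  haveI : IsDomain (Kh ⊗[K] L) := NoZeroDivisors.to_isDomain _
  haveI : IsArtinianRing (Kh ⊗[K] L) := isArtinian_of_tower Kh inferInstance
  exact IsArtinianRing.isField_of_isDomain _

end DvrFEtLib

end
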