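import Groth.Agent.DvrFEtLib.Field
import Groth.Agent.ClopenFFLib.Basic
import Groth.Agent.GabberRigidLib.Completion
import Groth.Agent.S0542

/-!
# Finite étale covers of a henselian discretely valued field and of its completion
-/

set_option autoImplicit false
set_option linter.all false
set_option backward.isDefEq.respectTransparency false
set_option backward.isDefEq.respectTransparency.types false
set_option maxHeartbeats 1000000

universe u

open IsLocalRing CategoryTheory CategoryTheory.Limits AlgebraicGeometry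
open scoped TensorProduct

noncomputable section

namespace DvrFEtLib

variable {K Kh : Type u} [Field K] [Field Kh] [Algebra K Kh]

/-- If separable extensions stay fields, clopens of finite étale covers correspond. -/
theorem clopenBij (h : ∀ (L : Type u) [Field L] [Algebra K L] [FiniteDimensional K L] [Algebra.IsSeparable K L],
      IsField (Kh ⊗[K] L)) :
    ClopenFFLib.ClopenBij (Spec.map (CommRingCat.ofHom (algebraMap K Kh))) := by
  intro Y C'
  let g : Spec (CommRingCat.of Kh) ⟶ Spec (CommRingCat.of K) := Spec.map (CommRingCat.ofHom (algebraMap K Kh))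
  let t : Y.left ⟶ Spec (CommRingCat.of K) := Y.hom
  haveI : AlgebraicGeometry.IsFinite t := Y.prop.1
  haveI : Etale t := Y.prop.2
  let pr := pullback.fst t g
  haveI : IsAffine Y.left := isAffine_of_isAffineHom t
  obtain ⟨φ, hφ⟩ := Spec.map_surjective (Y.left.isoSpec.inv ≫ t)
  let B := Γ(Y.left, ⊤)
  letI : Algebra K B := φ.hom.toAlgebra
  haveI : AlgebraicGeometry.IsFinite (Spec.map φ) := by rw [hφ]; infer_instance
  haveI : Etale (Spec.map φ) := by rw [hφ]; infer_instance
  haveI : Module.Finite K B := RingHom.finite_algebraMap.1 ((IsFinite.SpecMap_iff (f := φ)).1 ‹_›)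
  haveI : Algebra.Etale K B := RingHom.etale_algebraMap.1 ((HasRingHomProperty.Spec_iff (P := @Etale) (φ := φ)).1 ‹_›)
  haveI : IsArtinianRing B := isArtinian_of_tower K inferInstance
  let inR : B →ₐ[K] Kh ⊗[K] B := Algebra.TensorProduct.includeRight
  have hcm : Function.Bijective (PrimeSpectrum.comap inR.toRingHom) := by
    refine (Function.bijective_iff_existsUnique _).2 fun q => ?_
    haveI : q.asIdeal.IsMaximal := IsArtinianRing.isMaximal_of_isPrime q.asIdeal
    letI : Field (B ⧸ q.asIdeal) := Ideal.Quotient.field _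
    let qf : B →ₐ[K] B ⧸ q.asIdeal := Ideal.Quotient.mkₐ K q.asIdeal
    have hq : Function.Surjective qf := Ideal.Quotient.mkₐ_surjective K q.asIdeal
    haveI : Module.Finite K (B ⧸ q.asIdeal) := Module.Finite.of_surjective qf.toLinearMap hq
    haveI : Algebra.FormallyUnramified K (B ⧸ q.asIdeal) := Algebra.FormallyUnramified.of_surjective qf hq
    haveI : Algebra.IsSeparable K (B ⧸ q.asIdeal) := Algebra.FormallyUnramified.isSeparable K (B ⧸ q.asIdeal)
    let Φ : Kh ⊗[K] B →ₐ[K] Kh ⊗[K] (B ⧸ q.asIdeal) := Algebra.TensorProduct.map (AlgHom.id K Kh) qf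
    have hΦ : Function.Surjective Φ := TensorProduct.map_surjective Function.surjective_id hq
    letI := (h (B ⧸ q.asIdeal)).toField
    haveI hM : (RingHom.ker Φ.toRingHom).IsMaximal := RingHom.ker_isMaximal_of_surjective Φ.toRingHom hΦ
    have hker : RingHom.ker Φ.toRingHom = q.asIdeal.map inR.toRingHom := by
      refine (Algebra.TensorProduct.lTensor_ker (R := K) (A := Kh) qf hq).trans ?_
      rw [show RingHom.ker qf = q.asIdeal from Ideal.Quotient.mkₐ_ker K q.asIdeal]
      rfl
    refine ⟨⟨_, hM.isPrime⟩, PrimeSpectrum.ext ?_, fun Q hQ => PrimeSpectrum.ext ?_⟩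
    · exact ((inferInstance : q.asIdeal.IsMaximal).eq_of_le (Ideal.IsPrime.ne_top inferInstance)
        (Ideal.map_le_iff_le_comap.1 hker.ge)).symm
    · refine (hM.eq_of_le Q.isPrime.ne_top ?_).symm
      rw [hker, Ideal.map_le_iff_le_comap, ← hQ]
      rfl
  have hT := (isPullback_SpecMap_of_isPushout _ _ _ _ (CommRingCat.isPushout_tensorProduct K Kh B)).flip
  have hT' : IsPullback (Spec.map (CommRingCat.ofHom inR.toRingHom) ≫ Y.left.isoSpec.inv)
      (Spec.map (CommRingCat.ofHom (Algebra.TensorProduct.includeLeftRingHom : Kh →+* Kh ⊗[K] B))) t g := by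
    refine hT.of_iso (Iso.refl _) Y.left.isoSpec.symm (Iso.refl _) (Iso.refl _) (by simp [inR]) (by simp) ?_ (by simp [g])
    simp only [Iso.refl_hom, Category.comp_id, Iso.symm_hom]
    rw [← hφ]
    rfl
  let e := hT'.isoPullback
  have he : e.inv ≫ (Spec.map (CommRingCat.ofHom inR.toRingHom) ≫ Y.left.isoSpec.inv) = pr := hT'.isoPullback_inv_fst
  have hbij : Function.Bijective pr.base := by
    rw [← he]
    exact (Y.left.isoSpec.inv.homeomorph.bijective.comp hcm).comp e.inv.homeomorph.bijective
  haveI : DiscreteTopology Y.left := Y.left.isoSpec.inv.homeomorph.symm.isEmbedding.discreteTopology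
  refine ⟨⟨pr.base '' (C' : Set ↥(pullback t g)), isClopen_discrete _⟩, hbij.1.preimage_image (C' : Set ↥(pullback t g)), fun C hC => ?_⟩
  refine SetLike.coe_injective (hbij.2.preimage_injective ?_)
  exact hC.trans (hbij.1.preimage_image _).symm

/-- Restriction is an equivalence when separable extensions stay fields and all descend. -/
theorem isEquivalence (h : ∀ (L : Type u) [Field L] [Algebra K L] [FiniteDimensional K L] [Algebra.IsSeparable K L],
      IsField (Kh ⊗[K] L))
    (hd : ∀ (M : Type u) [Field M] [Algebra Kh M] [FiniteDimensional Kh M] [Algebra.IsSeparable Kh M],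
      ∃ (L : Type u) (_ : Field L) (_ : Algebra K L), FiniteDimensional K L ∧ Algebra.IsSeparable K L ∧
        Nonempty ((Kh ⊗[K] L) ≃ₐ[Kh] M)) :
    (FEt.restrict (Spec.map (CommRingCat.ofHom (algebraMap K Kh)))).IsEquivalence := by
  let g := Spec.map (CommRingCat.ofHom (algebraMap K Kh))
  obtain ⟨_, _⟩ := ClopenFFLib.full_faithful g (clopenBij h)
  haveI : (FEt.restrict g).EssSurj := ⟨fun T => by
    let t : T.left ⟶ Spec (CommRingCat.of Kh) := T.hom
    haveI : AlgebraicGeometry.IsFinite t := T.prop.1
    haveI : Etale t := T.prop.2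
    haveI : IsAffine T.left := isAffine_of_isAffineHom t
    obtain ⟨ψ, hψ⟩ := Spec.map_surjective (T.left.isoSpec.inv ≫ t)
    letI : Algebra Kh Γ(T.left, ⊤) := ψ.hom.toAlgebra
    haveI : AlgebraicGeometry.IsFinite (Spec.map ψ) := by rw [hψ]; infer_instance
    haveI : Etale (Spec.map ψ) := by rw [hψ]; infer_instance
    haveI : Algebra.Etale Kh Γ(T.left, ⊤) :=
      RingHom.etale_algebraMap.1 ((HasRingHomProperty.Spec_iff (P := @Etale) (φ := ψ)).1 ‹_›)
    obtain ⟨I, hI, Mi, hMF, hMA, em, hM⟩ := (Algebra.Etale.iff_exists_algEquiv_prod (K := Kh) (A := Γ(T.left, ⊤))).1 ‹_›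
    have hd' : ∀ i, ∃ (L : Type u) (_ : Field L) (_ : Algebra K L), FiniteDimensional K L ∧ Algebra.IsSeparable K L ∧
        Nonempty ((Kh ⊗[K] L) ≃ₐ[Kh] Mi i) := fun i =>
      haveI := (hM i).1
      haveI := (hM i).2
      hd (Mi i)
    choose L hLF hLA hLfin hLsep hLe using hd'
    let B := (i : I) → L i
    haveI : Algebra.Etale K B :=
      (Algebra.Etale.iff_exists_algEquiv_prod (K := K) (A := B)).2
        ⟨I, hI, L, hLF, hLA, AlgEquiv.refl, fun i => ⟨hLfin i, hLsep i⟩⟩
    haveI : Module.Finite K B := Module.Finite.pi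
    let φ : CommRingCat.of K ⟶ CommRingCat.of B := CommRingCat.ofHom (algebraMap K B)
    haveI : AlgebraicGeometry.IsFinite (Spec.map φ) := (IsFinite.SpecMap_iff (f := φ)).2 (RingHom.finite_algebraMap.2 ‹_›)
    haveI : Etale (Spec.map φ) := (HasRingHomProperty.Spec_iff (P := @Etale) (φ := φ)).2 (RingHom.etale_algebraMap.2 ‹_›)
    let Y : FEt.Cat (Spec (CommRingCat.of K)) := MorphismProperty.Over.mk ⊤ (Spec.map φ) ⟨inferInstance, inferInstance⟩
    classical
    haveI := Fintype.ofFinite I
    let eA : (Kh ⊗[K] B) ≃ₐ[Kh] Γ(T.left, ⊤) :=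
      ((Algebra.TensorProduct.piRight K Kh Kh L).trans (AlgEquiv.piCongrRight fun i => (hLe i).some)).trans em.symm
    have hP := (isPullback_SpecMap_of_isPushout _ _ _ _ (CommRingCat.isPushout_tensorProduct K Kh B)).flip
    let η : Spec (CommRingCat.of (Kh ⊗[K] B)) ≅ T.left :=
      Scheme.Spec.mapIso eA.toRingEquiv.toCommRingCatIso.op.symm ≪≫ T.left.isoSpec.symm
    refine ⟨Y, ⟨MorphismProperty.Over.isoMk (hP.isoPullback.symm ≪≫ η) ?_⟩⟩
    show (hP.isoPullback.symm ≪≫ η).hom ≫ t = pullback.snd (Spec.map φ) g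
    rw [Iso.trans_hom, Category.assoc, ← hP.isoPullback_inv_snd, Iso.symm_hom]
    congr 1
    simp only [η, Iso.trans_hom, Iso.symm_hom, Category.assoc, ← hψ, Functor.mapIso_hom, Scheme.Spec_map]
    rw [← Spec.map_comp]
    congr 1
    ext a
    first | exact eA.symm.commutes a | exact eA.commutes a⟩
  exact { }

/-- The completion of a henselian DVR does not change finite étale covers of the generic point. -/
theorem main (R : Type u) [CommRing R] [IsDomain R] [IsDiscreteValuationRing R] [HenselianLocalRing R]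
    [Algebra R K] [IsFractionRing R K] [Algebra (AdicCompletion (maximalIdeal R) R) Kh]
    [IsFractionRing (AdicCompletion (maximalIdeal R) R) Kh]
    [Algebra R Kh] [IsScalarTower R (AdicCompletion (maximalIdeal R) R) Kh] [IsScalarTower R K Kh] :
    (FEt.restrict (Spec.map (CommRingCat.ofHom (algebraMap K Kh)))).IsEquivalence := by
  let D := AdicCompletion (maximalIdeal R) R
  haveI hdom : IsDomain D := Function.Injective.isDomain (algebraMap D Kh) (IsFractionRing.injective D Kh)
  obtain ⟨ϖ, hϖ⟩ := IsDiscreteValuationRing.exists_irreducible R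
  have hmax : maximalIdeal D = Ideal.span {algebraMap R D ϖ} := by
    rw [show maximalIdeal D = (maximalIdeal R).map (algebraMap R D) from AdicCompletion.maximalIdeal_eq_map]
    exact (congrArg (Ideal.map (algebraMap R D)) hϖ.maximalIdeal_eq).trans (by rw [Ideal.map_span, Set.image_singleton])
  haveI : IsNoetherianRing D := Groth.Agent.S0542.result R (maximalIdeal R) (maximalIdeal R).fg_of_isNoetherianRing
  have hinj : Function.Injective (algebraMap R D) := AdicCompletion.of_injective _ _
  obtain ⟨_, hdvr⟩ := HensDvrCdLib.isDomain_dvr D _ hmax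
    (mem_nonZeroDivisors_of_ne_zero fun h => hϖ.ne_zero (hinj (h.trans (map_zero _).symm)))
  haveI := hdvr
  haveI : IsAdicComplete (maximalIdeal D) D := by
    haveI := AdicCompletion.isAdicComplete (M := R) (maximalIdeal R).fg_of_isNoetherianRing
    rw [show maximalIdeal D = (maximalIdeal R).map (algebraMap R D) from AdicCompletion.maximalIdeal_eq_map]
    exact (IsAdicComplete.map_algebraMap_iff (maximalIdeal R) D).2 inferInstance
  have hdense : ∀ d : D, ∃ a : R, d - algebraMap R D a ∈ maximalIdeal D := fun d => by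
    obtain ⟨a, ha⟩ := GabberRigidLib.exists_sub_mem_pow (maximalIdeal R).fg_of_isNoetherianRing 1 d
    exact ⟨a, by rwa [pow_one, ← AdicCompletion.maximalIdeal_eq_map] at ha⟩
  exact isEquivalence (fun L _ _ _ _ => isField_tensor R D ϖ hϖ hmax hdense K Kh L)
    (fun M _ _ _ _ => SepDescentLib.exists_descent (D := D) ϖ hmax hdense)

end DvrFEtLib

end
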